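import Groth.Agent.Et18.Embedding.Main
import Groth.Agent.Et18.HofPushSquare
import Groth.Agent.Et18.FinitePush
import Groth.Agent.Et18.H0Lift.ProperBC0
import Groth.Agent.EtCmp.AdjExt
import Groth.Agent.Et18.AcyclicN.TestObjects

/-!
# The comparison of cohomology on direct images of finite constant sheaves along finite morphisms
-/

set_option autoImplicit false
set_option linter.all false
set_option backward.isDefEq.respectTransparency.types false
set_option backward.isDefEq.respectTransparency false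
set_option backward.defeqAttrib.useBackward true
set_option synthInstance.maxHeartbeats 400000
set_option maxHeartbeats 1000000

universe u

open CategoryTheory CategoryTheory.Limits CategoryTheory.Abelian AlgebraicGeometry Opposite
open Groth.Agent.EtCmp Groth.Agent.EtLimit Groth.Agent.Et18.HpullComp

namespace Groth.Agent.Et18.CompCrit

variable {X Y : Scheme.{u}} (h : Y ⟶ X) [PreservesFiniteLimits (EtCoh.pull h)]

theorem Hpull_natural {F G : EtCoh.Ab X} (a : F ⟶ G) (i : ℕ) (z : EtCoh.H X F i) :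
    EtCore.Hpull h G i ((EtCoh.HF X i).map a z) =
      (EtCoh.HF Y i).map ((EtCoh.pull h).map a) (EtCore.Hpull h F i z) := by
  rw [HF_map_apply, HF_map_apply, Hpull_eq_hPull, Hpull_eq_hPull, HofPushSquare.hPull_precomp,
    HofPushSquare.hPull_postcomp, Category.comp_id, Category.id_comp]

theorem HF_map_comp_apply {Z : Scheme.{u}} {F G K : EtCoh.Ab Z} (a : F ⟶ G) (b : G ⟶ K) (i : ℕ)
    (z : EtCoh.H Z F i) : (EtCoh.HF Z i).map b ((EtCoh.HF Z i).map a z) = (EtCoh.HF Z i).map (a ≫ b) z := by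
  rw [Functor.map_comp]; rfl

theorem HF_map_sum {Z : Scheme.{u}} {κ : Type*} (s : Finset κ) {F G : EtCoh.Ab Z} (a : κ → (F ⟶ G))
    (i : ℕ) (z : EtCoh.H Z F i) :
    (EtCoh.HF Z i).map (∑ j ∈ s, a j) z = ∑ j ∈ s, (EtCoh.HF Z i).map (a j) z := by
  classical
  induction s using Finset.induction_on with
  | empty => rw [Finset.sum_empty, Finset.sum_empty, HF_map_apply, Ext.mk₀_zero, Ext.comp_zero]
  | @insert j s hj ih =>
    rw [Finset.sum_insert hj, Finset.sum_insert hj, HF_map_apply, Ext.mk₀_add, Ext.comp_add, ← ih]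
    rfl

/-- The comparison hypothesis on a single sheaf. -/
structure Nice (n : ℕ) (F : EtCoh.Ab X) : Prop where
  inj : Function.Injective (EtCore.Hpull h F 0)
  surj : ∀ i ≤ n, Function.Surjective (EtCore.Hpull h F i)

variable {h}

/-- `Nice` passes to finite decompositions. -/
theorem Nice.of_decomp {n : ℕ} {G : EtCoh.Ab X} {κ : Type*} [Fintype κ] {E : κ → EtCoh.Ab X}
    (hE : ∀ j, Nice h n (E j)) (a : ∀ j, G ⟶ E j) (b : ∀ j, E j ⟶ G) (hab : ∑ j, a j ≫ b j = 𝟙 G) :
    Nice h n G where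
  inj := (injective_iff_map_eq_zero _).2 fun z hz => by
    have hj : ∀ j, (EtCoh.HF X 0).map (a j) z = 0 := fun j =>
      (injective_iff_map_eq_zero _).1 (hE j).inj _ (by rw [Hpull_natural, hz, map_zero])
    have e : (EtCoh.HF X 0).map (∑ j, a j ≫ b j) z = z := by
      rw [hab, CategoryTheory.Functor.map_id]; rfl
    rw [← e, HF_map_sum]
    exact Finset.sum_eq_zero fun j _ => by rw [← HF_map_comp_apply, hj, map_zero]
  surj i hi ξ := by
    choose η hη using fun j => (hE j).surj i hi ((EtCoh.HF Y i).map ((EtCoh.pull h).map (a j)) ξ)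
    refine ⟨∑ j, (EtCoh.HF X i).map (b j) (η j), ?_⟩
    rw [map_sum]
    have e : (EtCoh.HF Y i).map ((EtCoh.pull h).map (∑ j, a j ≫ b j)) ξ = ξ := by
      rw [hab, CategoryTheory.Functor.map_id, CategoryTheory.Functor.map_id]; rfl
    conv_rhs => rw [← e, Functor.map_sum, HF_map_sum]
    exact Finset.sum_congr rfl fun j _ => by rw [Hpull_natural, hη, HF_map_comp_apply, ← Functor.map_comp]

theorem Nice.biproduct {n : ℕ} {κ : Type} [Fintype κ] (E : κ → EtCoh.Ab X) [HasBiproduct E]
    (hE : ∀ j, Nice h n (E j)) : Nice h n (⨁ E) :=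
  Nice.of_decomp hE (biproduct.π E) (biproduct.ι E) biproduct.total

/-- `HofPush` along an integral morphism is bijective. -/
theorem bijective_HofPush {Z : Scheme.{u}} (f : Z ⟶ X) [IsIntegralHom f] (F : EtCoh.Ab Z) (q : ℕ)
    [PreservesFiniteLimits (EtCoh.pull f)] : Function.Bijective (EtLim.HofPush f F q) := by
  haveI : PreservesFiniteLimits (EtCoh.push f) :=
    haveI : PreservesLimitsOfSize.{0, 0} (EtCoh.push f) := (EtCoh.pullPushAdj f).rightAdjoint_preservesLimits
    PreservesLimitsOfSize.preservesFiniteLimits _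
  let φ := (EtCore.pullConst f ℤ).inv
  have key : (⇑(EtLim.HofPush f F q) : EtCoh.H X ((EtCoh.push f).obj F) q → _) =
      (fun y => (Ext.mk₀ φ).comp y (zero_add q)) ∘
        (adjExtHom.{u + 1, u + 1} (EtCoh.pullPushAdj f) (EtCoh.const X ℤ) F q) := by
    funext z
    exact Ext.comp_assoc_of_third_deg_zero (Ext.mk₀ φ) _ _ (zero_add q)
  rw [key]
  exact (AcyclicN.precomp_bijective φ _ q).comp
    (bijective_adjExtHom (EtCoh.pullPushAdj f) _ q F fun i hi => Rpush_isZero_of_integral f F i hi)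

/-- The direct image along a finite morphism is `Nice` if the base changed comparison holds. -/
theorem nice_push {n : ℕ} {X' : Scheme.{u}} (p : X' ⟶ X) [IsFinite p] (C : EtCoh.Ab X')
    (h0 : Function.Injective (EtCore.Hpull (pullback.fst p h) C 0))
    (hs : ∀ i ≤ n, Function.Surjective (EtCore.Hpull (pullback.fst p h) C i)) :
    Nice h n ((EtCoh.push p).obj C) := by
  have hsq : IsPullback (pullback.fst p h) (pullback.snd p h) p h := IsPullback.of_hasPullback p h
  haveI : IsFinite (pullback.snd p h) := inferInstance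
  have hiso := H0Lift.isIso_baseChange0_of_isIntegralHom C p h (pullback.snd p h) (pullback.fst p h) hsq
  have key : ∀ i (ζ : EtCoh.H X ((EtCoh.push p).obj C) i),
      EtCore.Hpull (pullback.fst p h) C i (EtLim.HofPush p C i ζ) =
        EtLim.HofPush (pullback.snd p h) _ i (((EtCoh.HF Y i).map
          (EtCoh.baseChange0 p h (pullback.snd p h) (pullback.fst p h) hsq.w C)).hom
            (EtCore.Hpull h ((EtCoh.push p).obj C) i ζ)) := fun i ζ =>
    HofPushSquare.Hpull_HofPush p h (pullback.snd p h) (pullback.fst p h) hsq.w C i ζ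
  have hb : ∀ i, Function.Bijective (fun x : EtCoh.H Y _ i => EtLim.HofPush (pullback.snd p h) _ i
      (((EtCoh.HF Y i).map (EtCoh.baseChange0 p h (pullback.snd p h) (pullback.fst p h) hsq.w C)).hom x)) :=
    fun i => (bijective_HofPush (pullback.snd p h) _ i).comp (ConcreteCategory.bijective_of_isIso _)
  refine ⟨fun a b hab => ?_, fun i hi ξ => ?_⟩
  · refine (bijective_HofPush p C 0).1 (h0 ?_)
    rw [key, key, hab]
  · obtain ⟨η, hη⟩ := hs i hi (EtLim.HofPush (pullback.snd p h) _ i (((EtCoh.HF Y i).map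
      (EtCoh.baseChange0 p h (pullback.snd p h) (pullback.fst p h) hsq.w C)).hom ξ))
    obtain ⟨ζ, rfl⟩ := (bijective_HofPush p C i).2 η
    exact ⟨ζ, (hb i).1 ((key i ζ).symm.trans hη)⟩

/-- The hypothesis of the criterion. -/
def ConstCond (h : Y ⟶ X) (L : Set ℕ) (n : ℕ) : Prop :=
  ∀ (X' : Scheme.{u}) (p : X' ⟶ X) [IsFinite p] (m : ℕ), EtAcyc.PrimesIn L m →
    Function.Injective (EtCore.Hpull (pullback.fst p h) (EtCoh.const X' (ZMod m)) 0) ∧
      ∀ i ≤ n, Function.Surjective (EtCore.Hpull (pullback.fst p h) (EtCoh.const X' (ZMod m)) i)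

/-- Direct images of finite `L`-groups are `Nice`. -/
theorem nice_push_const {L : Set ℕ} {n : ℕ} (hb : ConstCond h L n) {X' : Scheme.{u}} (p : X' ⟶ X)
    [IsFinite p] (M : Type) [AddCommGroup M] [Finite M]
    (hM : ∀ a : M, ∃ m, EtAcyc.PrimesIn L m ∧ m • a = 0) :
    Nice h n ((EtCoh.push p).obj (EtCoh.const X' M)) := by
  classical
  obtain ⟨κ, _, q, hq, e, ⟨f⟩⟩ := AddCommGroup.equiv_directSum_zmod_of_finite M
  have hL : ∀ j, EtAcyc.PrimesIn L (q j ^ e j) := fun j => by
    refine ⟨pow_pos (hq j).pos _, fun r hr hd => ?_⟩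
    obtain ⟨m, hm, h0⟩ := hM (f.symm (DirectSum.of (fun j => ZMod (q j ^ e j)) j 1))
    have h1 : (m : ZMod (q j ^ e j)) = 0 := by
      have h2 := congrArg f h0
      rw [map_nsmul, f.apply_symm_apply, map_zero] at h2
      have h3 := DFunLike.congr_fun h2 j
      rw [DFinsupp.smul_apply, DirectSum.of_eq_same, nsmul_one] at h3
      exact h3
    exact hm.2 r hr (hd.trans ((ZMod.natCast_eq_zero_iff m _).mp h1))
  let A := AddCommGrpCat.of (ULift.{u + 1} M)
  let B : κ → AddCommGrpCat.{u + 1} := fun j => AddCommGrpCat.of (ULift.{u + 1} (ZMod (q j ^ e j)))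
  let a : ∀ j, A ⟶ B j := fun j => AddCommGrpCat.ofHom (AddEquiv.ulift.symm.toAddMonoidHom.comp
    ((DFinsupp.evalAddMonoidHom j).comp (f.toAddMonoidHom.comp AddEquiv.ulift.toAddMonoidHom)))
  let b : ∀ j, B j ⟶ A := fun j => AddCommGrpCat.ofHom (AddEquiv.ulift.symm.toAddMonoidHom.comp
    (f.symm.toAddMonoidHom.comp ((DirectSum.of (fun j => ZMod (q j ^ e j)) j).comp
      AddEquiv.ulift.toAddMonoidHom)))
  have hab : ∑ j, a j ≫ b j = 𝟙 A := by
    refine AddCommGrpCat.hom_ext (AddMonoidHom.ext fun x => ?_)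
    refine (map_sum (AddMonoidHom.mk' (fun φ : A ⟶ A => φ.hom x) fun _ _ => rfl) _ _).trans ?_
    refine ULift.down_injective ?_
    refine (map_sum (AddEquiv.ulift (α := M)) _ _).trans (Eq.trans ?_ (f.symm_apply_apply x.down))
    show ∑ j, f.symm (DirectSum.of (fun j => ZMod (q j ^ e j)) j (f x.down j)) = _
    rw [← map_sum, DirectSum.sum_univ_of]
  let T : AddCommGrpCat.{u + 1} ⥤ EtCoh.Ab X := cst X' ⋙ EtCoh.push p
  refine Nice.of_decomp (E := fun j => T.obj (B j)) (fun j => ?_) (fun j => T.map (a j)) (fun j => T.map (b j)) ?_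
  · obtain ⟨h0, hs⟩ := hb X' p _ (hL j)
    exact nice_push p (EtCoh.const X' (ZMod (q j ^ e j))) h0 hs
  · haveI : T.Additive := inferInstance
    simp only [← Functor.map_comp, ← Functor.map_sum, hab]
    exact T.map_id A

end Groth.Agent.Et18.CompCrit
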