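import Groth.Agent.Et18.CompCrit.Nice
import Groth.Agent.Et18.Effaceable
import Groth.Agent.Et18.AcyclicComp

/-!
# The criterion by finite constant sheaves for comparison of cohomology (SGA 4 XII 6.5)
-/

set_option autoImplicit false
set_option linter.all false
set_option backward.isDefEq.respectTransparency.types false
set_option backward.isDefEq.respectTransparency false
set_option backward.defeqAttrib.useBackward true
set_option synthInstance.maxHeartbeats 400000
set_option maxHeartbeats 1000000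

universe u

open CategoryTheory CategoryTheory.Limits CategoryTheory.Abelian AlgebraicGeometry Opposite

namespace Groth.Agent.Et18.CompCrit

variable {X Y : Scheme.{u}}

theorem isLTorsion_of_nsmul_id {L : Set ℕ} {K : EtCoh.Ab X} {m : ℕ} (hm : EtAcyc.PrimesIn L m)
    (h0 : m • 𝟙 K = 0) : EtAcyc.IsLTorsion L K := by
  rw [isLTorsion_iff_stalks]
  intro Ω _ _ ξ t
  refine ⟨m, hm, ?_⟩
  haveI : (EtCoh.stalk ξ).Additive := Functor.additive_of_preserves_binary_products _
  have h1 := congrArg (fun φ => φ t) ((Functor.map_nsmul (F := EtCoh.stalk ξ) (f := 𝟙 K) (n := m)).symm.trans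
    ((congrArg (EtCoh.stalk ξ).map h0).trans ((EtCoh.stalk ξ).map_zero _ _)))
  rw [CategoryTheory.Functor.map_id] at h1
  exact h1

/-- A map from a constructible sheaf to an `L`-torsion sheaf is killed by an `L`-number. -/
theorem exists_nsmul_hom [CompactSpace X] [QuasiSeparatedSpace X] {L : Set ℕ} {K F : EtCoh.Ab X}
    (hK : EtPBC.IsConstructible K) (hF : EtAcyc.IsLTorsion L F) (f : K ⟶ F) :
    ∃ m, EtAcyc.PrimesIn L m ∧ m • f = 0 := by
  obtain ⟨j, g, hg⟩ := (homComm_of_isConstructible (TorsionColim.isColimit L F hF) hK).surj f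
  refine ⟨j.val, j.prop, ?_⟩
  let g' : K ⟶ kernel (j.val • 𝟙 F) := g
  have hg' : g' ≫ kernel.ι (j.val • 𝟙 F) = f := hg
  rw [← hg', ← TorsionColim.nsmul_id_comp, Category.assoc, kernel.condition, comp_zero]

/-- Maps from constructible sheaves to `L`-torsion sheaves factor through `L`-torsion constructibles. -/
theorem exists_reduce [CompactSpace X] [QuasiSeparatedSpace X] {L : Set ℕ} {K F : EtCoh.Ab X}
    (hK : EtPBC.IsConstructible K) (hF : EtAcyc.IsLTorsion L F) (f : K ⟶ F) :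
    ∃ (K' : EtCoh.Ab X) (r : K ⟶ K') (f' : K' ⟶ F),
      EtPBC.IsConstructible K' ∧ EtAcyc.IsLTorsion L K' ∧ r ≫ f' = f := by
  obtain ⟨m, hm, h0⟩ := exists_nsmul_hom hK hF f
  refine ⟨cokernel (m • 𝟙 K : K ⟶ K), cokernel.π _, cokernel.desc _ f ?_,
    (isConstructible_kernel_cokernel _ hK hK).2, isLTorsion_of_nsmul_id hm ?_, cokernel.π_desc _ _ _⟩
  · rw [Preadditive.nsmul_comp, Category.id_comp, h0]
  · rw [← cancel_epi (cokernel.π (m • 𝟙 K : K ⟶ K)), Preadditive.comp_nsmul, Category.comp_id, comp_zero]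
    have h := cokernel.condition (m • 𝟙 K : K ⟶ K)
    rwa [Preadditive.nsmul_comp, Category.id_comp] at h

variable (h : Y ⟶ X) [PreservesFiniteLimits (EtCoh.pull h)]
variable [CompactSpace X] [QuasiSeparatedSpace X] [CompactSpace Y] [QuasiSeparatedSpace Y]

/-- Surjectivity on constructibles gives surjectivity. -/
theorem surj_of_constructible {L : Set ℕ} {i : ℕ}
    (hc : ∀ K : EtCoh.Ab X, EtPBC.IsConstructible K → EtAcyc.IsLTorsion L K →
      Function.Surjective (EtCore.Hpull h K i))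
    {F : EtCoh.Ab X} (hF : EtAcyc.IsLTorsion L F) : Function.Surjective (EtCore.Hpull h F i) := by
  intro ξ
  have hT : EtCoh.IsTorsion F := (TorsionColim.isTorsion_iff F).2 fun U s x => by
    obtain ⟨V, g, m, hv, hm, h0⟩ := hF U s x
    exact ⟨V, g, m, hv, ⟨hm.1, fun _ _ _ => trivial⟩, h0⟩
  obtain ⟨hcol⟩ := ColimCons.nonempty_isColimit hT
  haveI : PreservesColimitsOfSize.{u + 1, u + 1} (EtCoh.pull h) :=
    (EtCoh.pullPushAdj h).leftAdjoint_preservesColimits
  have := EtCechLib.preservesColimitsOfShape_HF (X := Y) i (ColimCons.Idx F)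
  obtain ⟨p, b, hb⟩ := Concrete.isColimit_exists_rep _
    (isColimitOfPreserves (EtCoh.HF Y i) (isColimitOfPreserves (EtCoh.pull h) hcol))
    (show ((EtCoh.HF Y i).obj ((EtCoh.pull h).obj F) : Type (u + 1)) from ξ)
  obtain ⟨K', r, f', hK', hKL, hrf⟩ :=
    exists_reduce (ColimCons.isConstructible_obj p) hF ((ColimCons.cocone F).ι.app p)
  obtain ⟨η, hη⟩ := hc K' hK' hKL ((EtCoh.HF Y i).map ((EtCoh.pull h).map r) b)
  refine ⟨(EtCoh.HF X i).map f' η, ?_⟩
  rw [Hpull_natural, hη, HF_map_comp_apply, ← Functor.map_comp, hrf]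
  exact hb

/-- Injectivity on constructibles gives injectivity. -/
theorem inj_of_constructible {L : Set ℕ} {i : ℕ}
    (hc : ∀ K : EtCoh.Ab X, EtPBC.IsConstructible K → EtAcyc.IsLTorsion L K →
      Function.Injective (EtCore.Hpull h K i))
    {F : EtCoh.Ab X} (hF : EtAcyc.IsLTorsion L F) : Function.Injective (EtCore.Hpull h F i) := by
  refine (injective_iff_map_eq_zero _).2 fun z hz => ?_
  have hT : EtCoh.IsTorsion F := (TorsionColim.isTorsion_iff F).2 fun U s x => by
    obtain ⟨V, g, m, hv, hm, h0⟩ := hF U s x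
    exact ⟨V, g, m, hv, ⟨hm.1, fun _ _ _ => trivial⟩, h0⟩
  obtain ⟨hcol⟩ := ColimCons.nonempty_isColimit hT
  haveI : PreservesColimitsOfSize.{u + 1, u + 1} (EtCoh.pull h) :=
    (EtCoh.pullPushAdj h).leftAdjoint_preservesColimits
  have := EtCechLib.preservesColimitsOfShape_HF (X := Y) i (ColimCons.Idx F)
  have := EtCechLib.preservesColimitsOfShape_HF (X := X) i (ColimCons.Idx F)
  obtain ⟨p, b, hb⟩ := Concrete.isColimit_exists_rep _
    (isColimitOfPreserves (EtCoh.HF X i) hcol) (show ((EtCoh.HF X i).obj F : Type (u + 1)) from z)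
  let b' : EtCoh.H X ((ColimCons.D F).obj p) i := b
  have hb' : (EtCoh.HF X i).map ((ColimCons.cocone F).ι.app p) b' = z := hb
  obtain ⟨q, a, hq⟩ := DeltaIso.colimit_eq_zero
    (isColimitOfPreserves (EtCoh.HF Y i) (isColimitOfPreserves (EtCoh.pull h) hcol)) p
    (EtCore.Hpull h _ i b') (by
      exact (Hpull_natural h _ i b').symm.trans ((congrArg (EtCore.Hpull h F i) hb').trans hz))
  obtain ⟨K', r, f', hK', hKL, hrf⟩ :=
    exists_reduce (ColimCons.isConstructible_obj q) hF ((ColimCons.cocone F).ι.app q)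
  have h0 : (EtCoh.HF X i).map r ((EtCoh.HF X i).map ((ColimCons.D F).map a) b') = 0 := by
    refine (injective_iff_map_eq_zero _).1 (hc K' hK' hKL) _ ?_
    rw [Hpull_natural, Hpull_natural]
    have hq' : (EtCoh.HF Y i).map ((EtCoh.pull h).map ((ColimCons.D F).map a))
        (EtCore.Hpull h _ i b') = 0 := hq
    rw [hq', map_zero]
  rw [← hb', ← (ColimCons.cocone F).w a, ← HF_map_comp_apply, ← hrf, ← HF_map_comp_apply, h0, map_zero]

section Induction

variable {h} {L : Set ℕ} {n : ℕ}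

/-- Constructible `L`-torsion sheaves embed into `Nice` ones. -/
theorem exists_nice (hb : ConstCond h L n) {F : EtCoh.Ab X} (hF : EtPBC.IsConstructible F)
    (hFL : EtAcyc.IsLTorsion L F) :
    ∃ (E : EtCoh.Ab X) (u : F ⟶ E), Mono u ∧ EtPBC.IsConstructible E ∧ EtAcyc.IsLTorsion L E ∧
      Nice h n E := by
  obtain ⟨k, Y', f, hf, hfp, M, iM, hM, hS, ι, hι⟩ := Embedding.exists_embedding hF
  have hML : ∀ j (a : M j), ∃ m, EtAcyc.PrimesIn L m ∧ m • a = 0 := fun j a => by
    obtain ⟨Θ, _, _, η, s, hs⟩ := hS j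
    obtain ⟨m, hm, h0⟩ := (isLTorsion_iff_stalks F L).1 hFL Θ η (s a)
    exact ⟨m, hm, hs ((map_nsmul s m a).trans (h0.trans (map_zero s).symm))⟩
  have hE : EtPBC.IsConstructible (⨁ fun j => (EtCoh.push (f j)).obj (EtCoh.const (Y' j) (M j))) :=
    isConstructible_biproduct _ fun j =>
      haveI := hf j
      haveI := hfp j
      haveI : Finite (AddCommGrpCat.of (ULift.{u + 1} (M j))) := Finite.of_equiv (M j) Equiv.ulift.symm
      haveI : CompactSpace (Y' j) := QuasiCompact.compactSpace_of_compactSpace (f j)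
      haveI : QuasiSeparatedSpace (Y' j) := quasiSeparatedSpace_of_quasiSeparated (f j)
      isConstructible_push_of_finitePresentation (f j)
        (isConstructible_of_isFLC (isFLC_cst (AddCommGrpCat.of (ULift.{u + 1} (M j)))))
  -- an exponent for `F` bounds the groups, hence the sum
  obtain ⟨m, hm, hmF⟩ := exists_nsmul_hom hF hFL (𝟙 F)
  refine ⟨_, ι, hι, hE, isLTorsion_of_nsmul_id hm ?_, Nice.biproduct _ fun j =>
    haveI := hf j
    nice_push_const hb (f j) (M j) (hML j)⟩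
  have hMm : ∀ j (a : M j), m • a = 0 := fun j a => by
    obtain ⟨Θ, _, _, η, s, hs⟩ := hS j
    refine hs ((map_nsmul s m a).trans (Eq.trans ?_ (map_zero s).symm))
    haveI : (EtCoh.stalk η).Additive := Functor.additive_of_preserves_binary_products _
    have h1 := congrArg (fun φ => φ (s a)) ((Functor.map_nsmul (F := EtCoh.stalk η) (f := 𝟙 F) (n := m)).symm.trans
      ((congrArg (EtCoh.stalk η).map hmF).trans ((EtCoh.stalk η).map_zero _ _)))
    rw [CategoryTheory.Functor.map_id] at h1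
    exact h1
  have key : ∀ j, m • 𝟙 ((EtCoh.push (f j)).obj (EtCoh.const (Y' j) (M j))) = 0 := fun j => by
    let A := AddCommGrpCat.of (ULift.{u + 1} (M j))
    let T : AddCommGrpCat.{u + 1} ⥤ EtCoh.Ab X := cst (Y' j) ⋙ EtCoh.push (f j)
    have hA : m • 𝟙 A = 0 := AddCommGrpCat.hom_ext (AddMonoidHom.ext fun a => by
      exact ULift.down_injective (hMm j a.down))
    show m • 𝟙 (T.obj A) = 0
    rw [← CategoryTheory.Functor.map_id, ← Functor.map_nsmul, hA, Functor.map_zero]
  refine biproduct.hom_ext _ _ fun j => ?_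
  rw [zero_comp, Preadditive.nsmul_comp, Category.id_comp,
    ← Category.comp_id (biproduct.π _ j), ← Preadditive.comp_nsmul, key, comp_zero]

/-- Effacement of an `L`-torsion sheaf with an exponent. -/
theorem exists_effacement {F : EtCoh.Ab X} {m : ℕ} (hm : EtAcyc.PrimesIn L m) (h0 : m • 𝟙 F = 0) :
    ∃ (G : EtCoh.Ab X) (u : F ⟶ G), Mono u ∧ EtAcyc.IsLTorsion L G ∧
      ∀ i, Subsingleton (EtCoh.H X G (i + 1)) := by
  let J := Injective.under F
  let i : F ⟶ kernel (m • 𝟙 J : J ⟶ J) := kernel.lift _ (Injective.ι F) (by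
    rw [Preadditive.comp_nsmul, Category.comp_id, ← Category.id_comp (Injective.ι F),
      ← Preadditive.nsmul_comp, h0, zero_comp])
  refine ⟨_, i, ?_, isLTorsion_of_nsmul_id hm ?_, fun q =>
    Effaceable.subsingleton_H_kernel J m hm.1.ne' (q + 1) q.succ_pos⟩
  · haveI : Mono (i ≫ kernel.ι _) := by
      rw [kernel.lift_ι]; infer_instance
    exact mono_of_mono i (kernel.ι _)
  · rw [← cancel_mono (kernel.ι (m • 𝟙 J : J ⟶ J)), Preadditive.nsmul_comp, Category.id_comp, zero_comp]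
    exact (TorsionColim.nsmul_id_comp (kernel.ι (m • 𝟙 J : J ⟶ J)) m).symm.trans (kernel.condition _)

theorem inj_succ {i : ℕ}
    (hinj : ∀ F : EtCoh.Ab X, EtAcyc.IsLTorsion L F → Function.Injective (EtCore.Hpull h F i))
    (hsur : ∀ F : EtCoh.Ab X, EtAcyc.IsLTorsion L F → Function.Surjective (EtCore.Hpull h F i))
    {F : EtCoh.Ab X} (hF : EtPBC.IsConstructible F) (hFL : EtAcyc.IsLTorsion L F) :
    Function.Injective (EtCore.Hpull h F (i + 1)) := by
  refine (injective_iff_map_eq_zero _).2 fun z hz => ?_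
  obtain ⟨m, hm, h0⟩ := exists_nsmul_hom hF hFL (𝟙 F)
  obtain ⟨G, u, hu, hGL, hG⟩ := exists_effacement hm h0
  let S := ShortComplex.mk u (cokernel.π u) (cokernel.condition u)
  have hS : S.ShortExact :=
    { exact := ShortComplex.exact_of_g_is_cokernel S (cokernelIsCokernel u) }
  have hT := hS.map_of_exact (EtCoh.pull h)
  have hQ : EtAcyc.IsLTorsion L S.X₃ := isLTorsion_of_epi L (cokernel.π u) hGL
  haveI := hG i
  obtain ⟨w, rfl⟩ := Ext.covariant_sequence_exact₁ (S := S) _ hS z (Subsingleton.elim (α := EtCoh.H X G (i + 1)) _ _) rfl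
  let φ := (EtCore.pullConst h ℤ).inv
  have e1 : HpullExact.pullExt (EtCoh.pull h) φ (w.comp hS.extClass rfl) = 0 := hz
  rw [HpullExact.pullExt_comp, Ext.mapExactFunctor_extClass] at e1
  obtain ⟨v, hv⟩ := Ext.covariant_sequence_exact₃ (S := S.map (EtCoh.pull h)) _ hT _ rfl e1
  obtain ⟨v₀, rfl⟩ := hsur G hGL v
  have e2 : EtCore.Hpull h S.X₃ i ((EtCoh.HF X i).map S.g v₀) = EtCore.Hpull h S.X₃ i w :=
    (Hpull_natural h S.g i v₀).trans ((HF_map_apply _ _ _).trans hv)
  rw [← hinj S.X₃ hQ e2, HF_map_apply, Ext.comp_assoc_of_second_deg_zero, hS.comp_extClass, Ext.comp_zero]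

theorem inj_zero (hb : ConstCond h L n) {F : EtCoh.Ab X} (hF : EtPBC.IsConstructible F)
    (hFL : EtAcyc.IsLTorsion L F) : Function.Injective (EtCore.Hpull h F 0) := by
  refine (injective_iff_map_eq_zero _).2 fun z hz => ?_
  obtain ⟨E, u, hu, -, -, hN⟩ := exists_nice hb hF hFL
  have h1 : (EtCoh.HF X 0).map u z = 0 :=
    (injective_iff_map_eq_zero _).1 hN.inj _ (by rw [Hpull_natural, hz, map_zero])
  obtain ⟨f, rfl⟩ := (Ext.mk₀_bijective _ _).2 z
  rw [HF_map_apply, Ext.mk₀_comp_mk₀, Ext.mk₀_eq_zero_iff] at h1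
  rw [(cancel_mono u).1 (h1.trans zero_comp.symm), Ext.mk₀_zero]

theorem surj_zero (hb : ConstCond h L n)
    (hinj : ∀ F : EtCoh.Ab X, EtAcyc.IsLTorsion L F → Function.Injective (EtCore.Hpull h F 0))
    {F : EtCoh.Ab X} (hF : EtPBC.IsConstructible F) (hFL : EtAcyc.IsLTorsion L F) :
    Function.Surjective (EtCore.Hpull h F 0) := by
  intro ξ
  obtain ⟨E, u, hu, -, hEL, hN⟩ := exists_nice hb hF hFL
  obtain ⟨η, hη⟩ := hN.surj 0 (Nat.zero_le n) ((EtCoh.HF Y 0).map ((EtCoh.pull h).map u) ξ)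
  let S := ShortComplex.mk u (cokernel.π u) (cokernel.condition u)
  have hS : S.ShortExact :=
    { exact := ShortComplex.exact_of_g_is_cokernel S (cokernelIsCokernel u) }
  have h1 : (EtCoh.HF X 0).map (cokernel.π u) η = 0 := by
    refine (injective_iff_map_eq_zero _).1 (hinj _ (isLTorsion_of_epi L (cokernel.π u) hEL)) _ ?_
    rw [Hpull_natural, hη, HF_map_comp_apply, ← Functor.map_comp, cokernel.condition, Functor.map_zero,
      HF_map_apply, Ext.mk₀_zero, Ext.comp_zero]
  rw [HF_map_apply] at h1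
  obtain ⟨η₀, hη₀⟩ := Ext.covariant_sequence_exact₂ (S := S) _ hS η h1
  refine ⟨η₀, ?_⟩
  have h2 : (EtCoh.HF Y 0).map ((EtCoh.pull h).map u) (EtCore.Hpull h F 0 η₀) =
      (EtCoh.HF Y 0).map ((EtCoh.pull h).map u) ξ :=
    (Hpull_natural h u 0 η₀).symm.trans
      ((congrArg (EtCore.Hpull h E 0) ((HF_map_apply _ _ _).trans hη₀)).trans hη)
  obtain ⟨a, ha⟩ := (Ext.mk₀_bijective _ _).2 (EtCore.Hpull h F 0 η₀)
  obtain ⟨b, hb⟩ := (Ext.mk₀_bijective _ _).2 ξ
  rw [← ha, ← hb, HF_map_apply, HF_map_apply, Ext.mk₀_comp_mk₀, Ext.mk₀_comp_mk₀] at h2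
  haveI : Mono ((EtCoh.pull h).map u) := inferInstance
  rw [← ha, ← hb, (cancel_mono ((EtCoh.pull h).map u)).1 ((Ext.mk₀_bijective _ _).1 h2)]

theorem surj_succ (hb : ConstCond h L n) {i : ℕ} (hi : i + 1 ≤ n)
    (hinj : ∀ F : EtCoh.Ab X, EtAcyc.IsLTorsion L F → Function.Injective (EtCore.Hpull h F (i + 1)))
    (hsur : ∀ F : EtCoh.Ab X, EtAcyc.IsLTorsion L F → Function.Surjective (EtCore.Hpull h F i))
    {F : EtCoh.Ab X} (hF : EtPBC.IsConstructible F) (hFL : EtAcyc.IsLTorsion L F) :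
    Function.Surjective (EtCore.Hpull h F (i + 1)) := by
  intro ξ
  obtain ⟨E, u, hu, -, hEL, hN⟩ := exists_nice hb hF hFL
  obtain ⟨η, hη⟩ := hN.surj (i + 1) hi ((EtCoh.HF Y (i + 1)).map ((EtCoh.pull h).map u) ξ)
  let S := ShortComplex.mk u (cokernel.π u) (cokernel.condition u)
  have hS : S.ShortExact :=
    { exact := ShortComplex.exact_of_g_is_cokernel S (cokernelIsCokernel u) }
  have hQ : EtAcyc.IsLTorsion L S.X₃ := isLTorsion_of_epi L (cokernel.π u) hEL
  obtain ⟨η₀, hη₀⟩ := HpullExact.mem_range_of_shortExact (EtCoh.pull h) (EtCore.pullConst h ℤ).inv hS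
    (hsur _ hQ) (fun z hz => hinj _ hQ (hz.trans (map_zero (EtCore.Hpull h S.X₃ (i + 1))).symm))
    (fun a b => map_add (EtCore.Hpull h S.X₁ (i + 1)) a b) ξ η (hη.trans (HF_map_apply _ _ _))
  exact ⟨η₀, hη₀⟩

/-- The criterion. -/
theorem compN_of_constCond (hb : ConstCond h L n) : EtAcyc.CompN h L n := by
  have key : ∀ i, (i ≤ n + 1 → ∀ F : EtCoh.Ab X, EtAcyc.IsLTorsion L F →
      Function.Injective (EtCore.Hpull h F i)) ∧
      (i ≤ n → ∀ F : EtCoh.Ab X, EtAcyc.IsLTorsion L F → Function.Surjective (EtCore.Hpull h F i)) := by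
    intro i
    induction i with
    | zero =>
      have hI : ∀ F : EtCoh.Ab X, EtAcyc.IsLTorsion L F → Function.Injective (EtCore.Hpull h F 0) :=
        fun F hF => inj_of_constructible h (fun K hK hKL => inj_zero hb hK hKL) hF
      exact ⟨fun _ => hI, fun _ F hF => surj_of_constructible h (fun K hK hKL => surj_zero hb hI hK hKL) hF⟩
    | succ i ih =>
      have hI : i + 1 ≤ n + 1 → ∀ F : EtCoh.Ab X, EtAcyc.IsLTorsion L F →
          Function.Injective (EtCore.Hpull h F (i + 1)) := fun hi F hF =>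
        inj_of_constructible h (fun K hK hKL => inj_succ (ih.1 (by omega)) (ih.2 (by omega)) hK hKL) hF
      exact ⟨hI, fun hi F hF => surj_of_constructible h
        (fun K hK hKL => surj_succ hb hi (hI (by omega)) (ih.2 (by omega)) hK hKL) hF⟩
  intro F hF _
  exact ⟨fun q hq => ⟨(key q).1 (by omega) F hF, (key q).2 hq F hF⟩, (key (n + 1)).1 le_rfl F hF⟩

end Induction

end Groth.Agent.Et18.CompCrit
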